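import Mathlib

namespace Groth.Agent.H5.QFQ

open IsLocalRing

universe u

variable {R : Type u} [CommRing R] [IsDomain R] [IsNoetherianRing R]

/-- H1: below a minimal prime over a principal ideal there is only `⊥` (Noetherian domain). -/
theorem eq_bot_of_lt_minimalPrime (x : R) (Q : Ideal R)
    (hQ : Q ∈ (Ideal.span {x}).minimalPrimes) (Q' : Ideal R) [Q'.IsPrime] (h : Q' < Q) :
    Q' = ⊥ := by
  haveI := hQ.1.1
  have h1 : Q.height ≤ 1 :=
    Ideal.height_le_one_of_isPrincipal_of_mem_minimalPrimes (Ideal.span {x}) Q hQ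
  have h2 : Q'.height + 1 ≤ Q.height := Ideal.height_add_one_le_of_lt_of_isPrime h
  have h3 : Q'.height = 0 := by
    have h4 : Q'.height + 1 ≤ 0 + 1 := by simpa using h2.trans h1
    exact le_antisymm ((ENat.add_le_add_iff_right ENat.one_ne_top).mp h4) zero_le
  exact Ideal.height_eq_zero_iff_eq_bot.mp h3

variable [IsLocalRing R]

/-- Lemma G. -/
theorem prime_eq_maximalIdeal_of_forall_mem (b : R) (hb : b ≠ 0)
    (h : ∀ P : Ideal R, P.IsPrime → P ≠ ⊥ → b ∈ P) (P : Ideal R) [P.IsPrime] (hP : P ≠ ⊥) :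
    P = maximalIdeal R := by
  classical
  by_contra hne
  have hlt : P < maximalIdeal R := lt_of_le_of_ne (le_maximalIdeal (Ideal.IsPrime.ne_top inferInstance)) hne
  have hfin : (Ideal.span {b}).minimalPrimes.Finite :=
    Ideal.finite_minimalPrimes_of_isNoetherianRing R _
  have hbP : Ideal.span {b} ≤ P := (Ideal.span_singleton_le_iff_mem _).2 (h P inferInstance hP)
  obtain ⟨Q₀, hQ₀, hQ₀P⟩ := Ideal.exists_minimalPrimes_le hbP
  -- prime avoidance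
  have hnot : ¬ ((maximalIdeal R : Set R) ⊆ ⋃ Q ∈ (hfin.toFinset : Set (Ideal R)), (Q : Set R)) := by
    intro hsub
    rw [Ideal.subset_union_prime (f := fun Q : Ideal R => Q) Q₀ Q₀
      (fun Q hQ _ _ => ((Set.Finite.mem_toFinset hfin).1 hQ).1.1)] at hsub
    obtain ⟨Q, hQ, hmQ⟩ := hsub
    have hQ' := (Set.Finite.mem_toFinset hfin).1 hQ
    haveI := hQ'.1.1
    have hQm : Q = maximalIdeal R :=
      le_antisymm (le_maximalIdeal (Ideal.IsPrime.ne_top inferInstance)) hmQ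
    exact hP (eq_bot_of_lt_minimalPrime b Q hQ' P (hQm ▸ hlt))
  obtain ⟨x, hxm, hx⟩ := Set.not_subset.mp hnot
  have hxQ : ∀ Q ∈ (Ideal.span {b}).minimalPrimes, x ∉ Q := by
    intro Q hQ hxQ
    apply hx
    simp only [Set.mem_iUnion]
    exact ⟨Q, (Set.Finite.mem_toFinset hfin).2 hQ, hxQ⟩
  have hx0 : x ≠ 0 := by
    rintro rfl
    exact hxQ Q₀ hQ₀ Q₀.zero_mem
  have hxm' : Ideal.span {x} ≤ maximalIdeal R := (Ideal.span_singleton_le_iff_mem _).2 hxm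
  obtain ⟨Q₂, hQ₂, -⟩ := Ideal.exists_minimalPrimes_le hxm'
  haveI := hQ₂.1.1
  have hxQ₂ : x ∈ Q₂ := hQ₂.1.2 (Ideal.mem_span_singleton_self x)
  have hQ₂0 : Q₂ ≠ ⊥ := by
    rintro rfl
    exact hx0 (by simpa using hxQ₂)
  have hbQ₂ : Ideal.span {b} ≤ Q₂ :=
    (Ideal.span_singleton_le_iff_mem _).2 (h Q₂ inferInstance hQ₂0)
  obtain ⟨Q₁, hQ₁, hQ₁₂⟩ := Ideal.exists_minimalPrimes_le hbQ₂
  haveI := hQ₁.1.1
  have hbQ₁ : b ∈ Q₁ := hQ₁.1.2 (Ideal.mem_span_singleton_self b)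
  have hQ₁0 : Q₁ ≠ ⊥ := by
    rintro rfl
    exact hb (by simpa using hbQ₁)
  rcases eq_or_lt_of_le hQ₁₂ with heq | hlt'
  · exact hxQ Q₁ hQ₁ (heq ▸ hxQ₂)
  · exact hQ₁0 (eq_bot_of_lt_minimalPrime x Q₂ hQ₂ Q₁ hlt')

end Groth.Agent.H5.QFQ
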