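import Mathlib
import Groth.Agent.Lib.Helper5.ES.B

namespace Groth.Agent.H5.QFQ

open IsLocalRing

universe u

/-- Lemma Q: a local, essentially finite type `A`-algebra whose closed fibre is module-finite
is quasi-finite (via Zariski's main theorem). -/
theorem quasiFinite_of_finite_closedFibre (A R : Type u) [CommRing A] [CommRing R]
    [IsLocalRing A] [IsLocalRing R] [Algebra A R] [IsLocalHom (algebraMap A R)]
    [Algebra.EssFiniteType A R]
    (hfin : Module.Finite A (R ⧸ (maximalIdeal A).map (algebraMap A R))) :
    Algebra.QuasiFinite A R := by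
  let R₀ := Algebra.EssFiniteType.subalgebra A R
  let M := Algebra.EssFiniteType.submonoid A R
  have hM : M = (IsUnit.submonoid R).comap (algebraMap R₀ R) := rfl
  let e := ES.locEquiv (A := A) M hM
  rw [← Algebra.QuasiFinite.iff_of_algEquiv e]
  have hunder : (ES.q₀ R₀ R).under A = maximalIdeal A := by
    have h1 : (maximalIdeal R).comap (algebraMap A R) = maximalIdeal A :=
      IsLocalRing.maximalIdeal_comap (algebraMap A R)
    rw [← h1, Ideal.under, ES.q₀, Ideal.comap_comap, ← IsScalarTower.algebraMap_eq]
  haveI : Algebra.WeaklyQuasiFiniteAt A (ES.q₀ R₀ R) := by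
    rw [Algebra.weaklyQuasiFiniteAt_iff, hunder]
    have hmap : (maximalIdeal A).map (algebraMap A R) =
        ((maximalIdeal A).map (algebraMap A (Localization.AtPrime (ES.q₀ R₀ R)))).map
          (e : Localization.AtPrime (ES.q₀ R₀ R) →+* R) := by
      rw [Ideal.map_map]
      congr 1
      ext x
      simp
    let e' : (Localization.AtPrime (ES.q₀ R₀ R) ⧸
        (maximalIdeal A).map (algebraMap A (Localization.AtPrime (ES.q₀ R₀ R)))) ≃ₐ[A]
        (R ⧸ (maximalIdeal A).map (algebraMap A R)) :=
      Ideal.quotientEquivAlg _ _ e hmap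
    rw [Algebra.QuasiFinite.iff_of_algEquiv e']
    infer_instance
  exact Algebra.QuasiFiniteAt.of_weaklyQuasiFiniteAt _

end Groth.Agent.H5.QFQ
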