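import Mathlib
import Groth.Agent.Lib.Helper5.QFQ.A
import Groth.Agent.Lib.Helper5.QFQ.B

namespace Groth.Agent.H5.QFQ

open IsLocalRing

universe u

/-- Finite closed fibre for a one-dimensional local quotient. -/
theorem finite_closedFibre {A R : Type u} [CommRing A] [CommRing R]
    [IsLocalRing A] [IsLocalRing R] [IsNoetherianRing R] [Algebra A R] [IsLocalHom (algebraMap A R)]
    (hres : Module.Finite A (R ⧸ maximalIdeal R))
    (hP : ∀ P : Ideal R, P.IsPrime → (maximalIdeal A).map (algebraMap A R) ≤ P →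
      P = maximalIdeal R) :
    Module.Finite A (R ⧸ (maximalIdeal A).map (algebraMap A R)) := by
  set I := (maximalIdeal A).map (algebraMap A R) with hI
  have hIm : I ≤ maximalIdeal R := IsLocalRing.map_maximalIdeal_le (algebraMap A R)
  have hItop : I ≠ ⊤ := fun h => (maximalIdeal.isMaximal R).ne_top (top_le_iff.mp (h ▸ hIm))
  haveI : Nontrivial (R ⧸ I) := Ideal.Quotient.nontrivial_iff.mpr hItop
  haveI : IsLocalRing (R ⧸ I) := IsLocalRing.of_surjective' (Ideal.Quotient.mk I)
    Ideal.Quotient.mk_surjective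
  haveI : IsLocalHom (Ideal.Quotient.mk I) := IsLocalHom.of_surjective _ Ideal.Quotient.mk_surjective
  have hcomap : (maximalIdeal (R ⧸ I)).comap (Ideal.Quotient.mk I) = maximalIdeal R :=
    IsLocalRing.maximalIdeal_comap _
  -- every prime of T is maximal
  have hprime : ∀ Q : Ideal (R ⧸ I), Q.IsPrime → Q = maximalIdeal (R ⧸ I) := by
    intro Q hQ
    have h1 : Q.comap (Ideal.Quotient.mk I) = maximalIdeal R := by
      apply hP _ (Ideal.comap_isPrime _ _)
      intro x hx
      rw [Ideal.mem_comap, Ideal.Quotient.eq_zero_iff_mem.mpr hx]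
      exact Q.zero_mem
    apply Ideal.comap_injective_of_surjective _ Ideal.Quotient.mk_surjective
    rw [h1, hcomap]
  haveI : Ring.KrullDimLE 0 (R ⧸ I) := by
    rw [Ring.krullDimLE_zero_iff]
    intro Q hQ
    rw [hprime Q hQ]
    infer_instance
  haveI : IsArtinianRing (R ⧸ I) :=
    isArtinianRing_iff_isNoetherianRing_krullDimLE_zero.mpr ⟨inferInstance, inferInstance⟩
  have hjac : Ring.jacobson (R ⧸ I) = maximalIdeal (R ⧸ I) :=
    IsLocalRing.ringJacobson_eq_maximalIdeal _
  -- surjection R ⧸ m_R → T ⧸ m_T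
  let φ : (R ⧸ maximalIdeal R) →ₐ[A] ((R ⧸ I) ⧸ maximalIdeal (R ⧸ I)) :=
    Ideal.quotientMapₐ (maximalIdeal (R ⧸ I)) (Ideal.Quotient.mkₐ A I) (le_of_eq hcomap.symm)
  have hφ : Function.Surjective φ := by
    intro y
    obtain ⟨y, rfl⟩ := Ideal.Quotient.mk_surjective y
    obtain ⟨y, rfl⟩ := Ideal.Quotient.mk_surjective y
    exact ⟨Ideal.Quotient.mk _ y, rfl⟩
  haveI : Module.Finite A ((R ⧸ I) ⧸ maximalIdeal (R ⧸ I)) :=
    Module.Finite.of_surjective φ.toLinearMap hφ
  haveI : Module.Finite A ((R ⧸ I) ⧸ Ring.jacobson (R ⧸ I)) := by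
    rw [hjac]; infer_instance
  exact IsSemiprimaryRing.finite_of_isArtinian A (R ⧸ I) (R ⧸ I)

theorem main {A B : Type u} [CommRing A] [CommRing B] [IsLocalRing A] [IsLocalRing B]
    [IsNoetherianRing A]
    [Algebra A B] [IsLocalHom (algebraMap A B)] [Algebra.EssFiniteType A B]
    [Module.Finite (IsLocalRing.ResidueField A) (IsLocalRing.ResidueField B)]
    (V : Set (PrimeSpectrum B)) (hV : IsOpen V)
    (hne : ∃ q ∈ V, q.asIdeal.comap (algebraMap A B) ≠ IsLocalRing.maximalIdeal A) :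
    ∃ q ∈ V, q.asIdeal.comap (algebraMap A B) ≠ IsLocalRing.maximalIdeal A ∧
      Algebra.QuasiFinite A (B ⧸ q.asIdeal) := by
  haveI : IsNoetherianRing B := Algebra.EssFiniteType.isNoetherianRing A B
  obtain ⟨q₀, hq₀V, hq₀⟩ := hne
  have hex : ∃ a ∈ maximalIdeal A, algebraMap A B a ∉ q₀.asIdeal := by
    by_contra hcon
    push Not at hcon
    apply hq₀
    apply le_antisymm
    · exact le_maximalIdeal (Ideal.IsPrime.ne_top (Ideal.comap_isPrime _ _))
    · intro a ha
      exact hcon a ha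
  obtain ⟨a, ha, haq⟩ := hex
  obtain ⟨_, ⟨b', rfl⟩, hq₀b', hb'V⟩ :=
    PrimeSpectrum.isTopologicalBasis_basic_opens.exists_subset_of_mem_open hq₀V hV
  have hb'q₀ : b' ∉ q₀.asIdeal := hq₀b'
  set b := b' * algebraMap A B a with hb
  have hbq₀ : b ∉ q₀.asIdeal := fun h => (q₀.2.mem_or_mem h).elim hb'q₀ haq
  let S : Set (Ideal B) := {q | q.IsPrime ∧ b ∉ q}
  have hS : S.Nonempty := ⟨q₀.asIdeal, q₀.2, hbq₀⟩
  obtain ⟨q, hqS, hqmax⟩ : ∃ q : Ideal B, q ∈ S ∧ ∀ I ∈ S, ¬ q < I :=
    set_has_maximal_iff_noetherian.mpr (inferInstance : IsNoetherian B B) S hS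
  haveI hqp : q.IsPrime := hqS.1
  have hbq : b ∉ q := hqS.2
  have hb'q : b' ∉ q := fun h => hbq (q.mul_mem_right _ h)
  have haq' : algebraMap A B a ∉ q := fun h => hbq (q.mul_mem_left _ h)
  refine ⟨⟨q, hqp⟩, hb'V hb'q, ?_, ?_⟩
  · intro h
    have : a ∈ q.comap (algebraMap A B) := h ▸ ha
    exact haq' this
  · show Algebra.QuasiFinite A (B ⧸ q)
    haveI : IsLocalRing (B ⧸ q) := IsLocalRing.of_surjective' (Ideal.Quotient.mk q)
      Ideal.Quotient.mk_surjective
    haveI hloc : IsLocalHom (Ideal.Quotient.mk q) :=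
      IsLocalHom.of_surjective _ Ideal.Quotient.mk_surjective
    haveI : IsLocalHom (algebraMap A (B ⧸ q)) := by
      have : algebraMap A (B ⧸ q) = (Ideal.Quotient.mk q).comp (algebraMap A B) := rfl
      rw [this]
      infer_instance
    have hcomap : (maximalIdeal (B ⧸ q)).comap (Ideal.Quotient.mk q) = maximalIdeal B :=
      IsLocalRing.maximalIdeal_comap _
    -- nonzero primes contain b̄
    have hbbar : (Ideal.Quotient.mk q b) ≠ 0 := fun h => hbq (Ideal.Quotient.eq_zero_iff_mem.mp h)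
    have hall : ∀ P : Ideal (B ⧸ q), P.IsPrime → P ≠ ⊥ → Ideal.Quotient.mk q b ∈ P := by
      intro P hP hP0
      by_contra hbP
      have hmem : P.comap (Ideal.Quotient.mk q) ∈ S := ⟨Ideal.comap_isPrime _ _, hbP⟩
      have hle : q ≤ P.comap (Ideal.Quotient.mk q) := by
        intro x hx
        rw [Ideal.mem_comap, Ideal.Quotient.eq_zero_iff_mem.mpr hx]
        exact P.zero_mem
      have hne' : q ≠ P.comap (Ideal.Quotient.mk q) := by
        intro heq
        apply hP0
        rw [eq_bot_iff]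
        intro y hy
        obtain ⟨y, rfl⟩ := Ideal.Quotient.mk_surjective y
        have : y ∈ q := heq ▸ (Ideal.mem_comap.mpr hy)
        rw [Ideal.mem_bot, Ideal.Quotient.eq_zero_iff_mem]
        exact this
      exact hqmax _ hmem (lt_of_le_of_ne hle hne')
    have hone : ∀ P : Ideal (B ⧸ q), P.IsPrime → P ≠ ⊥ → P = maximalIdeal (B ⧸ q) :=
      fun P hP hP0 => prime_eq_maximalIdeal_of_forall_mem _ hbbar hall P hP0
    -- residue field finite
    haveI : Module.Finite A (ResidueField A) :=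
      Module.Finite.of_surjective (Algebra.linearMap A (ResidueField A))
        IsLocalRing.residue_surjective
    haveI : Module.Finite A (ResidueField B) := Module.Finite.trans (ResidueField A) _
    have hres : Module.Finite A ((B ⧸ q) ⧸ maximalIdeal (B ⧸ q)) := by
      let φ : (B ⧸ maximalIdeal B) →ₐ[A] ((B ⧸ q) ⧸ maximalIdeal (B ⧸ q)) :=
        Ideal.quotientMapₐ (maximalIdeal (B ⧸ q)) (Ideal.Quotient.mkₐ A q) (le_of_eq hcomap.symm)
      have hφ : Function.Surjective φ := by
        intro y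
        obtain ⟨y, rfl⟩ := Ideal.Quotient.mk_surjective y
        obtain ⟨y, rfl⟩ := Ideal.Quotient.mk_surjective y
        exact ⟨Ideal.Quotient.mk _ y, rfl⟩
      have : Module.Finite A (B ⧸ maximalIdeal B) := ‹Module.Finite A (ResidueField B)›
      exact Module.Finite.of_surjective φ.toLinearMap hφ
    apply quasiFinite_of_finite_closedFibre
    apply finite_closedFibre hres
    intro P hP hmP
    apply hone P hP
    intro hP0
    have h1 : algebraMap A (B ⧸ q) a ∈ P := hmP (Ideal.mem_map_of_mem _ ha)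
    rw [hP0, Ideal.mem_bot] at h1
    exact haq' (Ideal.Quotient.eq_zero_iff_mem.mp h1)

end Groth.Agent.H5.QFQ
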